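import Groth.Agent.CurveFam.Pluri
import Groth.Agent.ProjMor.VAmpleApply
import Groth.Agent.TMul.RelAmple
import Groth.Agent.W7Hull.InvDual
import Groth.Agent.HilbFib.Square
import Groth.Agent.DimField.Limit
import Groth.Agent.DimField.Scheme
import Groth.Agent.ShriekLQF.Sheaf
import Mathlib.AlgebraicGeometry.Morphisms.LocalFlatDescent

/-!
Families of geometrically connected smooth proper curves of a given genus: permanence under base
change, descent along fppf coverings, and relative ampleness of `Ω^{±1}` away from genus one.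
-/

set_option autoImplicit false
set_option backward.isDefEq.respectTransparency false
set_option backward.isDefEq.respectTransparency.types false
set_option linter.style.haveILetI false

universe u

open CategoryTheory CategoryTheory.Limits AlgebraicGeometry TopologicalSpace MorphismProperty

noncomputable section

namespace Groth.Agent.CurveDesc

/-- Proper smooth families with geometrically connected one-dimensional fibres of genus `g`. -/
structure IsGCCurve (g : ℕ) {X Y : Scheme.{u}} (f : X ⟶ Y) : Prop where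
  proper : IsProper f
  smooth : Smooth f
  gc : GeometricallyConnected f
  dim : ∀ s : Y, topologicalKrullDim ↥(f.fiber s) = 1
  genus : ∀ s : Y, PerfAux.betti f (Coh.structureModule X) s 1 = g

variable {g : ℕ}

theorem betti_eq_genus {X Y : Scheme.{u}} (f : X ⟶ Y) (s : Y) :
    letI : (f.fiber s).Over (Spec (Y.residueField s)) := ⟨f.fiberToSpecResidueField s⟩
    PerfAux.betti f (Coh.structureModule X) s 1 = Curv2.genus (Y.residueField s) (f.fiber s) := by
  letI : (f.fiber s).Over (Spec (Y.residueField s)) := ⟨f.fiberToSpecResidueField s⟩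
  exact CurveRR.h_eq_of_iso (k := Y.residueField s) (PicLoc.pullbackStructureIso (f.fiberι s)) 1

theorem betti_structure_of_isPullback {X X' Y Y' : Scheme.{u}} {f : X ⟶ Y} {σ : Y' ⟶ Y} {p : X' ⟶ X}
    {q : X' ⟶ Y'} [IsProper f] (sq : IsPullback p q f σ) (y : Y') :
    PerfAux.betti q (Coh.structureModule X') y 1 = PerfAux.betti f (Coh.structureModule X) (σ.base y) 1 := by
  rw [← HilbFib.betti_of_isPullback sq _ (QC.isQCoh_unit X) y 1]
  letI : (q.fiber y).Over (Spec (Y'.residueField y)) := ⟨q.fiberToSpecResidueField y⟩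
  exact CurveRR.h_eq_of_iso (k := Y'.residueField y)
    ((Scheme.Modules.pullback (q.fiberι y)).mapIso (PicLoc.pullbackStructureIso p).symm) 1

theorem IsGCCurve.of_isPullback {X X' Y Y' : Scheme.{u}} {f : X ⟶ Y} {σ : Y' ⟶ Y} {p : X' ⟶ X}
    {q : X' ⟶ Y'} (hf : IsGCCurve g f) (sq : IsPullback p q f σ) : IsGCCurve g q where
  proper := MorphismProperty.of_isPullback sq hf.proper
  smooth := MorphismProperty.of_isPullback sq hf.smooth
  gc := MorphismProperty.of_isPullback sq hf.gc
  dim y := by
    haveI := hf.proper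
    exact (DimField.dim_fiber_eq_of_isPullback sq y).trans (hf.dim _)
  genus y := by
    haveI := hf.proper
    rw [betti_structure_of_isPullback sq y, hf.genus]

theorem geometricallyConnected_descend {X Y : Scheme.{u}} (f : X ⟶ Y) {ι : Type u} {U : ι → Scheme.{u}}
    {X' : ι → Scheme.{u}} (σ : ∀ i, U i ⟶ Y) (hσ : ∀ y : Y, ∃ i, y ∈ Set.range (σ i))
    (p : ∀ i, X' i ⟶ X) (q : ∀ i, X' i ⟶ U i) (sq : ∀ i, IsPullback (p i) (q i) f (σ i))
    (h : ∀ i, GeometricallyConnected (q i)) : GeometricallyConnected f := by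
  refine ⟨geometrically_iff_of_isClosedUnderIsomorphisms.mpr fun K _ y => ?_⟩
  let pt : Spec (CommRingCat.of K) := (⊥ : PrimeSpectrum K)
  obtain ⟨i, a, ha⟩ := hσ (y pt)
  obtain ⟨z, -, -⟩ := Scheme.Pullback.exists_preimage_pullback (f := y) (g := σ i) pt a ha.symm
  let P := pullback y (σ i)
  let c : Spec (P.residueField z) ⟶ Spec (CommRingCat.of K) := P.fromSpecResidueField z ≫ pullback.fst _ _
  let d : Spec (P.residueField z) ⟶ U i := P.fromSpecResidueField z ≫ pullback.snd _ _
  have hcd : c ≫ y = d ≫ σ i := by simp only [c, d, Category.assoc, pullback.condition]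
  have hL : ConnectedSpace ↥(pullback (q i) d) :=
    (h i).geometrically_connectedSpace d (pullback.fst (q i) d) (pullback.snd (q i) d)
      (IsPullback.of_hasPullback _ _)
  let b : pullback (q i) d ⟶ pullback f y := pullback.lift (pullback.fst _ _ ≫ p i) (pullback.snd _ _ ≫ c) (by
    rw [Category.assoc, Category.assoc, (sq i).w, pullback.condition_assoc, hcd])
  have sq' : IsPullback b (pullback.snd (q i) d) (pullback.snd f y) c := by
    refine IsPullback.of_right ?_ (pullback.lift_snd _ _ _) (IsPullback.of_hasPullback f y)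
    rw [pullback.lift_fst, hcd]
    exact (IsPullback.of_hasPullback (q i) d).paste_horiz (sq i)
  haveI : Nonempty ↥(Spec (P.residueField z)) := inferInstance
  have hc : Surjective c := ⟨fun t => ⟨Classical.arbitrary _, Subsingleton.elim _ _⟩⟩
  haveI : Surjective b := MorphismProperty.of_isPullback sq'.flip hc
  exact b.surjective.connectedSpace b.continuous

theorem IsGCCurve.descend {X Y : Scheme.{u}} (f : X ⟶ Y) {ι : Type u} {U : ι → Scheme.{u}}
    {X' : ι → Scheme.{u}} (σ : ∀ i, U i ⟶ Y) (hσ : ∀ y : Y, ∃ i, y ∈ Set.range (σ i))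
    [∀ i, Flat (σ i)] [∀ i, LocallyOfFinitePresentation (σ i)]
    (p : ∀ i, X' i ⟶ X) (q : ∀ i, X' i ⟶ U i) (sq : ∀ i, IsPullback (p i) (q i) f (σ i))
    (h : ∀ i, IsGCCurve g (q i)) : IsGCCurve g f := by
  let s : ∐ U ⟶ Y := Sigma.desc σ
  have hs : (@Surjective ⊓ @Flat ⊓ @LocallyOfFinitePresentation : MorphismProperty Scheme.{u}) s := by
    refine ⟨⟨⟨fun y => ?_⟩, IsZariskiLocalAtSource.sigmaDesc (fun i => inferInstance)⟩,
      IsZariskiLocalAtSource.sigmaDesc (fun i => inferInstance)⟩
    obtain ⟨i, a, rfl⟩ := hσ y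
    exact ⟨Sigma.ι U i a, by rw [← Scheme.Hom.comp_apply, Sigma.ι_desc]⟩
  have key : ∀ (Q : MorphismProperty Scheme.{u}) [IsZariskiLocalAtTarget Q],
      (∀ i, Q (q i)) → Q (pullback.snd f s) := by
    intro Q _ hQ
    refine (IsZariskiLocalAtTarget.iff_of_openCover (P := Q) (sigmaOpenCover U)).mpr fun i => ?_
    change Q (pullback.snd (pullback.snd f s) (Sigma.ι U i))
    have sq' := (IsPullback.of_hasPullback (pullback.snd f s) (Sigma.ι U i)).paste_horiz
      (IsPullback.of_hasPullback f s)
    rw [show Sigma.ι U i ≫ s = σ i from Sigma.ι_desc _ _] at sq'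
    rw [← (sq i).isoIsPullback_inv_snd _ _ sq']
    exact (Q.cancel_left_of_respectsIso _ _).mpr (hQ i)
  haveI := ShriekLQF.descendsAlong_isProper.{u}
  have hp : IsProper f := MorphismProperty.of_isPullback_of_descendsAlong (P := @IsProper)
    (Q := (@Surjective ⊓ @Flat ⊓ @LocallyOfFinitePresentation : MorphismProperty Scheme.{u}))
    (IsPullback.of_hasPullback f s).flip hs (key @IsProper fun i => (h i).proper)
  refine ⟨hp, ?_, geometricallyConnected_descend f σ hσ p q sq fun i => (h i).gc, fun y => ?_, fun y => ?_⟩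
  · exact MorphismProperty.of_isPullback_of_descendsAlong (P := @Smooth)
      (Q := (@Surjective ⊓ @Flat ⊓ @LocallyOfFinitePresentation : MorphismProperty Scheme.{u}))
      (IsPullback.of_hasPullback f s).flip hs (key @Smooth fun i => (h i).smooth)
  · obtain ⟨i, a, rfl⟩ := hσ y
    exact (DimField.dim_fiber_eq_of_isPullback (sq i) a).symm.trans ((h i).dim a)
  · obtain ⟨i, a, rfl⟩ := hσ y
    exact (betti_structure_of_isPullback (sq i) a).symm.trans ((h i).genus a)

/-- Some invertible module is ample relative to a family of curves of genus different from one. -/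
theorem IsGCCurve.exists_isRelAmple {X Y : Scheme.{u}} {f : X ⟶ Y} (hf : IsGCCurve g f) (hg : g ≠ 1) :
    ∃ L : X.Modules, RelAmple.IsRelAmple f L := by
  haveI := hf.proper
  haveI := hf.smooth
  haveI := hf.gc
  have hΩ := CurveFam.isInvertible_omega f hf.dim
  obtain ⟨L', hL', ⟨τ⟩⟩ := W7Hull.exists_tensor_inverse hΩ
  obtain ⟨L, hL, hpos⟩ : ∃ L : X.Modules, PicF.IsInvertible L ∧ ∀ s : Y,
      letI : (f.fiber s).Over (Spec (Y.residueField s)) := ⟨f.fiberToSpecResidueField s⟩
      1 ≤ Curv2.deg (Y.residueField s) (f.fiber s) ((Scheme.Modules.pullback (f.fiberι s)).obj L) 1 := by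
    have hω : ∀ s : Y,
        letI : (f.fiber s).Over (Spec (Y.residueField s)) := ⟨f.fiberToSpecResidueField s⟩
        Curv2.deg (Y.residueField s) (f.fiber s)
          ((Scheme.Modules.pullback (f.fiberι s)).obj (Omega.sheaf f)) 1 = 2 * (g : ℤ) - 2 := by
      intro s
      letI : (f.fiber s).Over (Spec (Y.residueField s)) := ⟨f.fiberToSpecResidueField s⟩
      haveI : IsProper (f.fiber s ↘ Spec (CommRingCat.of (Y.residueField s))) :=
        MorphismProperty.pullback_snd _ _ hf.proper
      haveI : Smooth (f.fiber s ↘ Spec (CommRingCat.of (Y.residueField s))) :=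
        MorphismProperty.pullback_snd _ _ hf.smooth
      haveI := CurveFam.isIntegral_fiber f hf.dim s
      obtain ⟨e⟩ := CurveFam.nonempty_omega_fiber f s
      rw [Curv2.deg, CurveRR.euler_eq_of_iso e, ← hf.genus s, betti_eq_genus f s]
      exact (CurveOmega.omega_facts' (Y.residueField s) (f.fiber s) (hf.dim s) (CurveFam.h0_fiber f s)).2.2
    rcases Nat.lt_or_ge g 2 with h1 | h2
    · obtain rfl : g = 0 := by omega
      refine ⟨L', hL', fun s => ?_⟩
      letI : (f.fiber s).Over (Spec (Y.residueField s)) := ⟨f.fiberToSpecResidueField s⟩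
      haveI : IsProper (f.fiber s ↘ Spec (CommRingCat.of (Y.residueField s))) :=
        MorphismProperty.pullback_snd _ _ hf.proper
      haveI := CurveFam.isIntegral_fiber f hf.dim s
      have hadd := CurveRR.deg_tensor_inv (k := Y.residueField s) (X := f.fiber s) (hf.dim s).le
        (PicLoc.isInvertible_pullback (f.fiberι s) hΩ) (PicLoc.isInvertible_pullback (f.fiberι s) hL')
      obtain ⟨e⟩ := TMul.nonempty_pullTensorIso (f.fiberι s) (Omega.sheaf f) L'
      have h0 := CurveRR.deg_structure (k := Y.residueField s) (X := f.fiber s)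
      have hω' := hω s
      simp only [Curv2.deg] at h0 hadd hω' ⊢
      rw [← CurveRR.euler_eq_of_iso (e ≪≫ (Scheme.Modules.pullback (f.fiberι s)).mapIso τ ≪≫
        PicLoc.pullbackStructureIso (f.fiberι s)).symm] at hadd
      omega
    · exact ⟨Omega.sheaf f, hΩ, fun s => by
        have := hω s
        omega⟩
  refine ⟨L, TMul.isRelAmple_of_exists hL fun y => ?_⟩
  have hLd := TMul.isInvertible_tensorPow hL (2 * g + 1)
  letI : (f.fiber y).Over (Spec (Y.residueField y)) := ⟨f.fiberToSpecResidueField y⟩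
  haveI : IsProper (f.fiber y ↘ Spec (CommRingCat.of (Y.residueField y))) :=
    MorphismProperty.pullback_snd _ _ hf.proper
  haveI : Smooth (f.fiber y ↘ Spec (CommRingCat.of (Y.residueField y))) :=
    MorphismProperty.pullback_snd _ _ hf.smooth
  haveI : GeometricallyConnected (f.fiber y ↘ Spec (CommRingCat.of (Y.residueField y))) :=
    MorphismProperty.pullback_snd _ _ hf.gc
  haveI := ClosedRep.GeomIntegral.geometricallyIntegral_of_smooth
    (f.fiber y ↘ Spec (CommRingCat.of (Y.residueField y)))
  haveI := CurveFam.isIntegral_fiber f hf.dim y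
  have h0 := CurveFam.h0_fiber f y
  have hM := PicLoc.isInvertible_pullback (f.fiberι y) hLd
  have hdeg : 2 * (Curv2.genus (Y.residueField y) (f.fiber y) : ℤ) + 1 ≤ Curv2.deg (Y.residueField y)
      (f.fiber y) ((Scheme.Modules.pullback (f.fiberι y)).obj (CohB1.tensorPow L (2 * g + 1))) 1 := by
    obtain ⟨e⟩ := TMul.nonempty_pullPowIso (f.fiberι y) L (2 * g + 1)
    rw [← betti_eq_genus f y, hf.genus]
    have h1 : Curv2.deg (Y.residueField y) (f.fiber y)
        ((Scheme.Modules.pullback (f.fiberι y)).obj (CohB1.tensorPow L (2 * g + 1))) 1 =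
        Curv2.deg (Y.residueField y) (f.fiber y)
          (CohB1.tensorPow ((Scheme.Modules.pullback (f.fiberι y)).obj L) (2 * g + 1)) 1 := by
      rw [Curv2.deg, Curv2.deg, CurveRR.euler_eq_of_iso e.symm]
    rw [h1, CurveRR.deg_tensorPow (hf.dim y).le (PicLoc.isInvertible_pullback _ hL)]
    have h2 := hpos y
    push_cast
    nlinarith [h2]
  obtain ⟨N, i, hi, hif, ⟨τ'⟩⟩ := CurveVA.exists_closedImmersion (k := Y.residueField y) (hf.dim y) h0 hM hdeg
  haveI := hi
  obtain ⟨U, hyU, hUaff, hU⟩ := CurveFam.exists_nhd_veryAmple f hLd y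
    (CurveFam.isRelVeryAmplePn_of_projSpace i hif τ')
    (CurveRR.subsingleton_h1 (hf.dim y).le h0 hM ((sub_le_iff_le_add.mpr (by omega)).trans hdeg))
  exact ⟨U, hyU, ProjMor.isAmple_restrict_of_isRelVeryAmplePn f hL le_rfl hUaff (Nat.succ_pos _) hU⟩

end Groth.Agent.CurveDesc
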