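import Groth.Agent.SchDescent.Refine
import Groth.Agent.SchDescent.PullFam

/-!
Effectivity of descent data for schemes along a tower of coverings: reflection along pullback to a
covering family, one-member families, and descent in two steps along a refinement.
-/

set_option autoImplicit false
set_option backward.isDefEq.respectTransparency false
set_option backward.isDefEq.respectTransparency.types false

universe u

open CategoryTheory CategoryTheory.Limits AlgebraicGeometry

namespace Groth.Agent.CurveDesc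

open Groth.Agent.SchDescent

variable {ι κ : Type u} {S : Scheme.{u}} {U : ι → Scheme.{u}} {V : κ → Scheme.{u}}
  {u : ∀ i, U i ⟶ S} {v : ∀ j, V j ⟶ S} {α : ι → κ} {g : ∀ i, U i ⟶ V (α i)}

/-- Canonical data pull back to canonical data. -/
theorem nonempty_pull_toDDFam (w : ∀ i, g i ≫ v (α i) = u i ≫ 𝟙 S) (Wt : Over S) :
    Nonempty ((Desc.pullDDFam (f := v) (f' := u) (α := α) (p := 𝟙 S) (p' := g) w).obj
      ((Desc.toDDFam v).obj Wt) ≅ (Desc.toDDFam u).obj Wt) := by
  refine nonempty_iso_pull w (fun {T i} t ↦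
    { toFun := fun z ↦ ⟨pullback.lift (t ≫ g i) (z.1 ≫ pullback.snd (u i) Wt.hom) ?_, pullback.lift_fst _ _ _⟩
      invFun := fun z ↦ ⟨pullback.lift t (z.1 ≫ pullback.snd (v (α i)) Wt.hom) ?_, pullback.lift_fst _ _ _⟩
      left_inv := fun z ↦ Subtype.ext (pullback.hom_ext ?_ ?_)
      right_inv := fun z ↦ Subtype.ext (pullback.hom_ext ?_ ?_) }) ?_ ?_
  · have hz : z.1 ≫ pullback.fst (u i) Wt.hom = t := z.2
    rw [Category.assoc, w, Category.comp_id, Category.assoc, ← pullback.condition, ← Category.assoc, hz]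
  · have hz : z.1 ≫ pullback.fst (v (α i)) Wt.hom = t ≫ g i := z.2
    rw [Category.assoc, ← pullback.condition, ← Category.assoc, hz, Category.assoc, w, Category.comp_id]
  · exact (pullback.lift_fst _ _ _).trans z.2.symm
  · exact (pullback.lift_snd _ _ _).trans (pullback.lift_snd _ _ _)
  · exact (pullback.lift_fst _ _ _).trans z.2.symm
  · exact (pullback.lift_snd _ _ _).trans (pullback.lift_snd _ _ _)
  · intro T T' s i t t' ht z z' hz
    subst ht
    refine pullback.hom_ext ?_ ?_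
    · exact (pullback.lift_fst _ _ _).trans ((Category.assoc _ _ _).trans
        ((congrArg (s ≫ ·) (pullback.lift_fst _ _ _).symm).trans (Category.assoc _ _ _).symm))
    · exact (pullback.lift_snd _ _ _).trans ((congrArg (· ≫ _) hz).trans ((Category.assoc _ _ _).trans
        ((congrArg (s ≫ ·) (pullback.lift_snd _ _ _).symm).trans (Category.assoc _ _ _).symm)))
  · intro T i j x₀ x₁ h h' z
    apply Subtype.ext
    simp only [Equiv.coe_fn_mk]
    apply pullback.hom_ext
    · exact (pullback.lift_fst _ _ _).trans (pullback.lift_fst _ _ _).symm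
    · exact (pullback.lift_snd _ _ _).trans ((pullback.lift_snd _ _ _).trans
        ((pullback.lift_snd _ _ _).symm.trans (pullback.lift_snd _ _ _).symm))

/-- Effectivity is reflected by pullback to a family whose points lift locally. -/
theorem isEffective_of_pull (w : ∀ i, g i ≫ v (α i) = u i ≫ 𝟙 S) (h : LiftsCover u v)
    {D : Desc.SchDDFam v}
    (hD : ((Desc.pullDDFam (f := v) (f' := u) (α := α) (p := 𝟙 S) (p' := g) w).obj D).IsEffective) :
    D.IsEffective := by
  obtain ⟨Wt, ⟨e⟩⟩ := hD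
  haveI := full_pullDDFam (g := g) w h
  haveI := faithful_pullDDFam (g := g) w h.liftsEpi
  obtain ⟨e'⟩ := nonempty_pull_toDDFam w Wt
  exact ⟨Wt, ⟨(Desc.pullDDFam (f := v) (f' := u) (α := α) (p := 𝟙 S) (p' := g) w).preimageIso (e' ≪≫ e)⟩⟩

/-- Effectivity for a family with a single member. -/
theorem isEffective_of_single {X : ι → Scheme.{u}} (f : ∀ i, X i ⟶ S) (i₀ : ι)
    (hc : Presieve.singleton (f i₀) ∈ Scheme.fpqcPrecoverage S) (E : Desc.SchDDFam f)
    (h : ∀ D : Desc.SchDD (f i₀),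
      (∃ e : D.obj.left ⟶ (E.obj i₀).left, IsPullback e D.obj.hom (E.obj i₀).hom (𝟙 (X i₀))) →
      ∃ W : Over S, Nonempty ((Desc.toDD (f i₀)).obj W ≅ D)) :
    E.IsEffective := by
  have w : ∀ _ : PUnit.{u + 1}, 𝟙 (X i₀) ≫ f i₀ = f i₀ ≫ 𝟙 S := fun _ ↦ by simp
  refine isEffective_of_pull (u := fun _ : PUnit.{u + 1} ↦ f i₀) (α := fun _ ↦ i₀)
    (g := fun _ ↦ 𝟙 (X i₀)) w (liftsCover_of_cover _ _ (mem_fpqc_singleton hc)) ?_
  let P := (Desc.pullDDFam (f := f) (f' := fun _ : PUnit.{u + 1} ↦ f i₀) (α := fun _ ↦ i₀) (p := 𝟙 S)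
    (p' := fun _ ↦ 𝟙 (X i₀)) w).obj E
  obtain ⟨W, ⟨e⟩⟩ := h ((Desc.SchDDFam.toSchDD (f i₀)).obj P)
    ⟨pullback.fst _ _, IsPullback.of_hasPullback (E.obj i₀).hom (𝟙 (X i₀))⟩
  exact ⟨W, ⟨(Desc.SchDDFam.ofSchDD (f i₀)).mapIso e⟩⟩

/-- Descent in two steps: if the part of `E` over each member of the coarser family is effective and
every datum on the coarser family with these descended members is effective, then so is `E`. -/
theorem isEffective_of_refine (w : ∀ i, g i ≫ v (α i) = u i)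
    (hcov : ∀ j, Presieve.ofArrows (fun i : Sub α j ↦ U i.1) (gg α g j) ∈ Scheme.fpqcPrecoverage (V j))
    (E : Desc.SchDDFam u) (hsub : ∀ j, (subDatum w E j).IsEffective)
    (hv : ∀ F : Desc.SchDDFam v, (∀ (j : κ) (i : Sub α j), ∃ e : (E.obj i.1).left ⟶ (F.obj j).left,
      IsPullback e (E.obj i.1).hom (F.obj j).hom (gg α g j i)) → F.IsEffective) :
    E.IsEffective := by
  choose W hW using hsub
  let e := fun j ↦ (hW j).some
  let η : ∀ {T : Scheme.{u}} {j : κ} (i : Sub α j) (t : T ⟶ U i.1),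
      Desc.Lifts (E.obj i.1) t ≃ Desc.Lifts (W j) (t ≫ gg α g j i) := fun {T j} i t ↦
    { toFun z := ⟨((e j).inv.push (x := t) z).1 ≫ pullback.snd (gg α g j i) (W j).hom, by
        rw [Category.assoc, ← pullback.condition]
        exact (Category.assoc _ _ _).symm.trans (congrArg (· ≫ gg α g j i) ((e j).inv.push (x := t) z).2)⟩
      invFun x := (e j).hom.push (x := t) (i := i) ⟨pullback.lift t x.1 x.2.symm, pullback.lift_fst _ _ _⟩
      left_inv z := by
        apply Subtype.ext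
        refine (congrArg (· ≫ ((e j).hom.hom i).left) (show pullback.lift t
          (((e j).inv.push (x := t) z).1 ≫ pullback.snd (gg α g j i) (W j).hom) _ =
            ((e j).inv.push (x := t) z).1 from pullback.hom_ext
          ((pullback.lift_fst _ _ _).trans ((e j).inv.push (x := t) z).2.symm)
          (pullback.lift_snd _ _ _))).trans ?_
        refine (Category.assoc _ _ _).trans ?_
        rw [← Over.comp_left, ← Desc.SchDDFam.comp_hom, Iso.inv_hom_id]
        exact Category.comp_id _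
      right_inv x := by
        apply Subtype.ext
        change ((pullback.lift t x.1 x.2.symm ≫ ((e j).hom.hom i).left) ≫ ((e j).inv.hom i).left) ≫ _ = x.1
        rw [Category.assoc (pullback.lift t x.1 x.2.symm), ← Over.comp_left, ← Desc.SchDDFam.comp_hom,
          Iso.hom_inv_id]
        exact (congrArg (· ≫ _) (Category.comp_id _)).trans (pullback.lift_snd _ _ _) }
  have hnat : ∀ {T T' : Scheme.{u}} (k : T' ⟶ T) {j : κ} (i : Sub α j) (t : T ⟶ U i.1) (t' : T' ⟶ U i.1)
      (_ : k ≫ t = t') (z : Desc.Lifts (E.obj i.1) t) (z' : Desc.Lifts (E.obj i.1) t'),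
      z'.1 = k ≫ z.1 → (η i t' z').1 = k ≫ (η i t z).1 := by
    intro T T' k j i t t' _ z z' hz
    change (z'.1 ≫ _) ≫ _ = k ≫ (z.1 ≫ _) ≫ _
    rw [hz]
    simp only [Category.assoc]
  have hcompat : ∀ {T : Scheme.{u}} {j : κ} (i i' : Sub α j) (t : T ⟶ U i.1) (t' : T ⟶ U i'.1)
      (_ : t ≫ gg α g j i = t' ≫ gg α g j i') (h' : t ≫ u i.1 = t' ≫ u i'.1)
      (z : Desc.Lifts (E.obj i.1) t), (η i' t' (E.φ t t' h' z)).1 = (η i t z).1 := by
    intro T j i i' t t' h h' z
    change (((subDatum w E j).φ t t' h z).1 ≫ ((e j).inv.hom i').left) ≫ _ = _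
    rw [← (e j).inv.comm t t' h z ((e j).inv.push (x := t) z) rfl]
    exact pullback.lift_snd _ _ _
  let P : PtEquiv (α := α) (g := g) E W := ⟨η, hnat, hcompat⟩
  have w' : ∀ i, g i ≫ v (α i) = u i ≫ 𝟙 S := fun i ↦ by rw [w, Category.comp_id]
  have hgg : ∀ i, gg α g (α i) ⟨i, rfl⟩ = g i := fun i ↦ Category.comp_id _
  obtain ⟨q⟩ := nonempty_iso_pull w' (D := P.datum w hcov) (D' := E)
    (fun {T i} t ↦ (P.η ⟨i, rfl⟩ t).trans
      (Equiv.subtypeEquivRight fun z ↦ by rw [hgg]; rfl))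
    (fun {T T'} k {i} t t' ht z z' hz ↦ P.natural k ⟨i, rfl⟩ t t' ht z z' hz) (by
      intro T i i' x₀ x₁ h h' z
      apply Subtype.ext
      let a : Desc.Lifts (W (α i)) (x₀ ≫ g i) :=
        ⟨(P.η ⟨i, rfl⟩ x₀ z).1, (P.η ⟨i, rfl⟩ x₀ z).2.trans (by rw [hgg])⟩
      have := PtEquiv.move_rel (P := P) w hcov (x₀ ≫ g i) (x₁ ≫ g i') h' a (𝟙 T) ⟨i, rfl⟩ ⟨i', rfl⟩ x₀ x₁
        (by rw [hgg, Category.id_comp]) (by rw [hgg, Category.id_comp]) h
      refine Eq.trans ?_ (this.trans (Category.id_comp _))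
      congr 3
      rw [Equiv.eq_symm_apply]
      exact Subtype.ext (Category.id_comp _).symm)
  obtain ⟨Wt, ⟨ψ⟩⟩ := hv (P.datum w hcov) fun j i ↦ by
    let d := ((e j).inv.hom i).left
    refine ⟨d ≫ pullback.snd (gg α g j i) (W j).hom, ?_⟩
    have : IsIso d := ⟨((e j).hom.hom i).left,
      by rw [← Over.comp_left, ← Desc.SchDDFam.comp_hom, Iso.inv_hom_id]; rfl,
      by rw [← Over.comp_left, ← Desc.SchDDFam.comp_hom, Iso.hom_inv_id]; rfl⟩
    exact (IsPullback.of_hasPullback (gg α g j i) (W j).hom).flip.of_iso (asIso d).symm (Iso.refl _)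
      (Iso.refl _) (Iso.refl _) (by simp) (by
        refine (cancel_epi (asIso d).hom).mp ?_
        simp only [asIso_hom, Iso.symm_hom, asIso_inv, IsIso.hom_inv_id_assoc, Iso.refl_hom, Category.comp_id]
        exact Over.w ((e j).inv.hom i)) (by simp; rfl) (by simp)
  obtain ⟨q'⟩ := nonempty_pull_toDDFam w' Wt
  exact ⟨Wt, ⟨q'.symm ≪≫ (Desc.pullDDFam (f := v) (f' := u) (α := α) (p := 𝟙 S) (p' := g) w').mapIso ψ ≪≫ q⟩⟩

end Groth.Agent.CurveDesc
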