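import Groth.Agent.CurveDesc.Ample
import Groth.Agent.CurveDesc.Tower
import Groth.Agent.S7198
import Groth.Agent.S7521

/-! Fppf descent data on families of curves of genus different from one are effective. -/

set_option autoImplicit false
set_option backward.isDefEq.respectTransparency false
set_option backward.isDefEq.respectTransparency.types false

universe u

open CategoryTheory CategoryTheory.Limits AlgebraicGeometry

namespace Groth.Agent.CurveDesc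

open Groth.Agent.SchDescent

variable {n : ℕ} {ι κ : Type u} {S : Scheme.{u}} {U : ι → Scheme.{u}} {V : κ → Scheme.{u}}
  {u : ∀ i, U i ⟶ S} {v : ∀ j, V j ⟶ S}

/-- A finite locally free surjective refinement. -/
theorem isEffective_step_finite {U' : ι → Scheme.{u}} {u' : ∀ i, U' i ⟶ S} (g : ∀ i, U' i ⟶ U i)
    (hg : ∀ i, Mor2.IsFinLocFree (g i)) (hgs : ∀ i, Surjective (g i))
    (w : ∀ i, g i ≫ u i = u' i) (hn : n ≠ 1) (E : Desc.SchDDFam u')
    (hE : ∀ i, IsGCCurve n (E.obj i).hom)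
    (hv : ∀ F : Desc.SchDDFam u, (∀ i, IsGCCurve n (F.obj i).hom) → F.IsEffective) : E.IsEffective := by
  have : ∀ i, IsFinite (g i) := fun i ↦ (hg i).1
  have : ∀ i, Flat (g i) := fun i ↦ (hg i).2.1
  have : ∀ i, LocallyOfFinitePresentation (g i) := fun i ↦ (hg i).2.2
  have hggp : ∀ (j : ι) (i : Sub id j), IsFinite (gg id g j i) ∧ Flat (gg id g j i) ∧
      LocallyOfFinitePresentation (gg id g j i) ∧ Surjective (gg id g j i) := by
    rintro j ⟨i, rfl⟩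
    rw [show gg id g (id i) ⟨i, rfl⟩ = g i from Category.comp_id _]
    exact ⟨inferInstance, inferInstance, inferInstance, hgs i⟩
  have hsing : ∀ j, Presieve.singleton (gg id g j ⟨j, rfl⟩) ∈ Scheme.fpqcPrecoverage (U j) := by
    intro j
    obtain ⟨_, _, _, _⟩ := hggp j ⟨j, rfl⟩
    exact Scheme.Hom.singleton_mem_fpqcPrecoverage _
  have hfin : ∀ (j : ι) (i : Sub (id : ι → ι) j), i = ⟨j, rfl⟩ := fun j i ↦ Subtype.ext i.2
  refine isEffective_of_refine (α := id) (g := g) w (fun j ↦ ?_) E (fun j ↦ ?_) (fun F hF ↦ hv F fun j ↦ ?_)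
  · have : Presieve.ofArrows (fun i : Sub id j ↦ U' i.1) (gg id g j) =
        Presieve.singleton (gg id g j ⟨j, rfl⟩) := by
      funext Y
      ext f
      constructor
      · rintro ⟨i⟩
        obtain rfl := hfin j i
        exact Presieve.singleton_self _
      · rintro ⟨⟩
        exact Presieve.ofArrows.mk (⟨j, rfl⟩ : Sub id j)
    rw [this]
    exact hsing j
  · refine isEffective_of_single _ ⟨j, rfl⟩ (hsing j) _ fun D ⟨e, he⟩ ↦ ?_
    obtain ⟨_, _, _, _⟩ := hggp j ⟨j, rfl⟩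
    obtain ⟨L, hL⟩ := ((hE j).of_isPullback he).exists_isRelAmple hn
    exact Groth.Agent.S7521.result (gg id g j ⟨j, rfl⟩) D L hL
  · obtain ⟨e, he⟩ := hF j ⟨j, rfl⟩
    obtain ⟨_, _, _, hs⟩ := hggp j ⟨j, rfl⟩
    exact IsGCCurve.descend _ (fun _ : PUnit.{u + 1} ↦ gg id g j ⟨j, rfl⟩)
      (fun y ↦ ⟨⟨⟩, hs.surj y⟩) (fun _ ↦ e) (fun _ ↦ (E.obj j).hom) (fun _ ↦ he) fun _ ↦ hE j

/-- A refinement by Zariski coverings of the members. -/
theorem isEffective_step_zariski {α : ι → κ} (g : ∀ i, U i ⟶ V (α i))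
    (w : ∀ i, g i ≫ v (α i) = u i)
    (hcov : ∀ j, Presieve.ofArrows (fun i : Sub α j ↦ U i.1) (gg α g j) ∈
      Scheme.zariskiPrecoverage (V j))
    (E : Desc.SchDDFam u) (hE : ∀ i, IsGCCurve n (E.obj i).hom)
    (hv : ∀ F : Desc.SchDDFam v, (∀ j, IsGCCurve n (F.obj j).hom) → F.IsEffective) : E.IsEffective := by
  refine isEffective_of_refine (α := α) (g := g) w
    (fun j ↦ Scheme.zariskiPrecoverage_le_fpqcPrecoverage _ (hcov j)) E
    (fun j ↦ isEffective_of_zariski (hcov j) _) (fun F hF ↦ hv F fun j ↦ ?_)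
  obtain ⟨hsurj, hopen⟩ := (Scheme.ofArrows_mem_precoverage_iff (P := @IsOpenImmersion)).mp (hcov j)
  have : ∀ i, IsOpenImmersion (gg α g j i) := hopen
  choose e he using hF j
  exact IsGCCurve.descend _ (fun i ↦ gg α g j i) (fun y ↦ hsurj y) e (fun i ↦ (E.obj i.1).hom) he
    fun i ↦ hE i.1

/-- Fppf descent data on families of curves of genus different from one are effective. -/
theorem effective_fppf {S' : Scheme.{u}} (p : S' ⟶ S) [Flat p] [Surjective p]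
    [LocallyOfFinitePresentation p] (D : Desc.SchDD p) (hD : IsGCCurve n D.obj.hom) (hn : n ≠ 1) :
    ∃ W : Over S, Nonempty ((Desc.toDD p).obj W ≅ D) := by
  let Ec : PreZeroHypercover.{u} S := PreZeroHypercover.mk PUnit.{u + 1} (fun _ ↦ S') (fun _ ↦ p)
  choose U₀ W₀ π hsU hπ hπs hW' using fun s : S ↦ Groth.Agent.S7198.result Ec (fun _ ↦ ‹Flat p›)
    (fun _ ↦ ‹LocallyOfFinitePresentation p›) (fun s ↦ ⟨⟨⟩, Surjective.surj (f := p) s⟩) s
  choose W' T ρ _i r hwW hρ hρs hr using hW'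
  let I : Type u := Σ s : S, (W₀ s : Scheme.{u})
  let w₃ : ∀ s, (U₀ s).toScheme ⟶ S := fun s ↦ (U₀ s).ι
  let w₂ : ∀ s, W₀ s ⟶ S := fun s ↦ π s ≫ (U₀ s).ι
  let w₁ : ∀ i : I, (W' i.1 i.2).toScheme ⟶ S := fun i ↦ (W' i.1 i.2).ι ≫ w₂ i.1
  let w₀ : ∀ i : I, T i.1 i.2 ⟶ S := fun i ↦ ρ i.1 i.2 ≫ w₁ i
  have hr' : ∀ i : I, r i.1 i.2 ≫ p = w₀ i := fun i ↦ hr i.1 i.2
  have h0 : Presieve.ofArrows (fun i : I ↦ T i.1 i.2) w₀ ∈ Scheme.fpqcPrecoverage S := by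
    refine Scheme.fppfPrecoverage_le_fpqcPrecoverage _
      ((Scheme.ofArrows_mem_precoverage_iff (P := @Flat ⊓ @LocallyOfFinitePresentation)).mpr
        ⟨fun y ↦ ?_, fun i ↦ ?_⟩)
    · obtain ⟨a, ha⟩ := (hπs y).surj ⟨y, hsU y⟩
      obtain ⟨b, hb⟩ := (hρs y a).surj ⟨a, hwW y a⟩
      refine ⟨⟨y, a⟩, b, ?_⟩
      simp only [w₀, w₁, w₂, Scheme.Hom.comp_apply, hb]
      change (U₀ y).ι (π y a) = y
      rw [ha]
      rfl
    · haveI := (hρ i.1 i.2).2.1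
      haveI := (hρ i.1 i.2).2.2
      haveI := (hπ i.1).2.1
      haveI := (hπ i.1).2.2
      exact ⟨inferInstance, inferInstance⟩
  have wp : ∀ i : I, r i.1 i.2 ≫ p = w₀ i ≫ 𝟙 S := fun i ↦ by rw [hr', Category.comp_id]
  suffices h : ((Desc.SchDDFam.ofSchDD.{u, u} p).obj D).IsEffective by
    obtain ⟨W, ⟨e⟩⟩ := h
    exact ⟨W, ⟨(Desc.SchDDFam.toSchDD p).mapIso e⟩⟩
  refine isEffective_of_pull (u := w₀) (v := fun _ : PUnit.{u + 1} ↦ p) (α := fun _ ↦ ⟨⟩)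
    (g := fun i ↦ r i.1 i.2) wp (liftsCover_of_cover _ _ h0) ?_
  let E := (Desc.pullDDFam (f := fun _ : PUnit.{u + 1} ↦ p) (f' := w₀) (α := fun _ ↦ ⟨⟩) (p := 𝟙 S)
    (p' := fun i ↦ r i.1 i.2) wp).obj ((Desc.SchDDFam.ofSchDD.{u, u} p).obj D)
  refine isEffective_step_finite (u := w₁) (fun i : I ↦ ρ i.1 i.2) (fun i ↦ hρ i.1 i.2)
    (fun i ↦ hρs i.1 i.2) (fun i ↦ rfl) hn E
    (fun i ↦ hD.of_isPullback (IsPullback.of_hasPullback D.obj.hom (r i.1 i.2))) fun F₁ hF₁ ↦ ?_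
  refine isEffective_step_zariski (v := w₂) (α := fun i : I ↦ i.1) (fun i ↦ (W' i.1 i.2).ι)
    (fun i ↦ rfl) (fun s ↦ ?_) F₁ hF₁ fun F₂ hF₂ ↦ ?_
  · refine (Scheme.ofArrows_mem_precoverage_iff (P := @IsOpenImmersion)).mpr ⟨fun a ↦ ?_, fun i ↦ ?_⟩
    · exact ⟨⟨⟨s, a⟩, rfl⟩, ⟨a, hwW s a⟩, by simp [gg]⟩
    · obtain ⟨i, rfl⟩ := i
      rw [show gg (fun i : I ↦ i.1) (fun i ↦ (W' i.1 i.2).ι) i.1 ⟨i, rfl⟩ = (W' i.1 i.2).ι from
        Category.comp_id _]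
      infer_instance
  refine isEffective_step_finite (u := w₃) π hπ hπs (fun s ↦ rfl) hn F₂ hF₂ fun F₃ _ ↦ ?_
  exact isEffective_of_zariski ((Scheme.ofArrows_mem_precoverage_iff (P := @IsOpenImmersion)).mpr
    ⟨fun y ↦ ⟨y, (⟨y, hsU y⟩ : (U₀ y).toScheme), rfl⟩, fun s ↦ inferInstanceAs (IsOpenImmersion (U₀ s).ι)⟩) F₃

end Groth.Agent.CurveDesc
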